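import Cfsg.Agent.Mrg.Omega.CR.Hecke
import Cfsg.Agent.Mrg.Omega.ML.LieRow.Lie
import Cfsg.Agent.Mrg.Omega.ML.Ex.Def
import Cfsg.Agent.Mrg.Omega.ML.Ex.TIE
import Cfsg.Agent.Mrg.Omega.ML.MinIrr
import Cfsg.Agent.ZN.ChoiceSit
import Cfsg.Agent.ZN.Facts

-- merged: Cfsg.Agent.Mrg.Omega.CR.BlK
section

/-!
# The theorem of Curtis and Richen for all split (B,N)-pairs of characteristic two, group form (helper818)

* `cr_split` : `K` with a split (B,N)-pair of characteristic two (`²F₄(q)` and `Sz(q)` included), `S` a Sylow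
  2-subgroup, `M` an irreducible `F₂K`-module: `C_M(S)` is an irreducible module for `N_K(S)`;
* **`cr_lie`** : the same for `K ⊴ H`, `K` simple of Lie type in characteristic two, `T` a Sylow 2-subgroup of `H`.
-/

set_option autoImplicit false
set_option linter.unusedSectionVars false

namespace Cfsg.Agent.Omega.CR.Bl

open Subgroup Cfsg
open Cfsg.Agent.Tits.Core Cfsg.Agent.Tits.OfBN Cfsg.Agent.Schreier.BNSch Cfsg.Agent.FixBN

universe u v

section rep

variable {K : Type u} [Group K] {M : Type v} [CommGroup M] [MulDistribMulAction K M] [Module (ZMod 2) (Additive M)]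

/-- the representation over `F₂` -/
def repM (K : Type u) [Group K] (M : Type v) [CommGroup M] [MulDistribMulAction K M] [Module (ZMod 2) (Additive M)] :
    K →* Module.End (ZMod 2) (Additive M) where
  toFun g := (MonoidHom.toAdditive (MulDistribMulAction.toMonoidHom M g)).toZModLinearMap 2
  map_one' := by
    refine LinearMap.ext fun v => ?_
    change Additive.ofMul ((1 : K) • v.toMul) = v
    rw [one_smul]
    rfl
  map_mul' a b := by
    refine LinearMap.ext fun v => ?_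
    change Additive.ofMul ((a * b) • v.toMul) = Additive.ofMul (a • b • v.toMul)
    rw [mul_smul]

theorem repM_apply (g : K) (v : Additive M) : repM K M g v = Additive.ofMul (g • v.toMul) := rfl

/-- the subspace of a subgroup -/
def subM (W : Subgroup M) : Submodule (ZMod 2) (Additive M) := AddSubgroup.toZModSubmodule 2 (Subgroup.toAddSubgroup W)

theorem mem_subM {W : Subgroup M} {v : Additive M} : v ∈ subM W ↔ v.toMul ∈ W := Iff.rfl

/-- the subgroup of a subspace -/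
def grpM (L : Submodule (ZMod 2) (Additive M)) : Subgroup M := AddSubgroup.toSubgroup' L.toAddSubgroup

theorem mem_grpM {L : Submodule (ZMod 2) (Additive M)} {m : M} : m ∈ grpM L ↔ Additive.ofMul m ∈ L := Iff.rfl

end rep

/-- **Curtis–Richen for split (B,N)-pairs of characteristic two.** -/
theorem cr_split {K : Type u} [Group K] [Finite K] (h : HasSplit 2 K) {S : Subgroup K} (hS : IsPGroup 2 S)
    (hSi : ¬ 2 ∣ S.index) {M : Type v} [Group M] [Finite M] [MulDistribMulAction K M] (sq : ∀ m : M, m * m = 1)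
    (irr : ∀ W : Subgroup M, (∀ k : K, ∀ w ∈ W, k • w ∈ W) → W = ⊥ ∨ W = ⊤) {W : Subgroup M}
    (hW : ∀ w ∈ W, ∀ s ∈ S, s • w = w) (hN : ∀ n ∈ normalizer (S : Set K), ∀ w ∈ W, n • w ∈ W) (hne : W ≠ ⊥) :
    ∀ m : M, (∀ s ∈ S, s • m = m) → m ∈ W := by
  classical
  have : Fact (Nat.Prime 2) := ⟨Nat.prime_two⟩
  obtain ⟨P, U, hPne, h⟩ := h
  have hN' : ((P.B ⊓ P.N).subgroupOf P.N).Normal := normal_subgroupOf P
  obtain ⟨M', cs, hcs⟩ := S0320.result P
  have hI : Finite P.S := OfBN.finite_I (Equiv.refl P.S)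
  have hIn : Nonempty P.S := hPne.to_subtype
  have Sy := OfBN.sys (Equiv.refl P.S) cs hcs h
  have hth := thick P (Equiv.refl P.S) cs hcs
  -- the chamber
  obtain ⟨c, hc⟩ := Sy.exists_fix _ hS
  have h1 : S ≤ Sy.U c := Sy.max c _ hS hc
  have hUc : Sy.U c = S := (hS.toSylow hSi : Sylow 2 K).is_maximal' (Sy.isP c) h1
  -- the module
  have hinv : ∀ z : M, z⁻¹ = z := fun z => inv_eq_of_mul_eq_one_right (sq z)
  have hcomm : ∀ x y : M, x * y = y * x := fun x y => by
    calc x * y = (x * y)⁻¹ := (hinv _).symm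
      _ = y⁻¹ * x⁻¹ := mul_inv_rev _ _
      _ = y * x := by rw [hinv, hinv]
  let _ : CommGroup M := { (inferInstance : Group M) with mul_comm := hcomm }
  let _ : Module (ZMod 2) (Additive M) := AddCommGroup.zmodModule (n := 2) (fun v => by
    change Additive.ofMul (v.toMul ^ 2) = 0
    rw [pow_two, sq]; rfl)
  have _ : Finite (Additive M) := inferInstanceAs (Finite M)
  have _ : FiniteDimensional (ZMod 2) (Additive M) := Module.Finite.of_finite
  have _ : Finite (K ⧸ P.B) := inferInstance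
  let _ : Fintype (K ⧸ P.B) := Fintype.ofFinite _
  have key := simple_Vx (S := Sy) (ρ := repM K M) (k := ZMod 2) hth (by
    intro L hL
    rcases irr (grpM L) (fun k w hw => by
      rw [mem_grpM] at hw ⊢
      exact hL k trivial _ hw) with h2 | h2
    · left
      rw [eq_bot_iff]
      intro v hv
      have h3 : v.toMul ∈ grpM L := hv
      rw [h2, mem_bot] at h3
      rw [Submodule.mem_bot]
      exact h3
    · right
      rw [eq_top_iff]
      intro v _
      have h3 : v.toMul ∈ grpM L := by rw [h2]; trivial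
      exact h3) c (L := subM W) (by
    intro v hv u hu
    rw [hUc] at hu
    rw [repM_apply]
    exact congrArg Additive.ofMul (hW v.toMul hv u hu)) (by
    intro g hg v hv
    rw [repM_apply]
    refine hN g ?_ _ hv
    rw [← hUc, mem_normalizer_iff]
    intro x
    have h2 : g * x * g⁻¹ ∈ Sy.U (g • c) ↔ x ∈ Sy.U c := Sy.conj_mem_U_iff
    rw [hg] at h2
    exact h2.symm)
  rcases key with h2 | h2
  · exfalso
    apply hne
    rw [eq_bot_iff]
    intro w hw
    have h3 : (Additive.ofMul w) ∈ subM W := hw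
    rw [h2, Submodule.mem_bot] at h3
    rw [mem_bot]
    exact h3
  · intro m hm
    have h3 : (Additive.ofMul m) ∈ Vx Sy (repM K M) c := by
      intro u hu
      rw [hUc] at hu
      rw [repM_apply]
      exact congrArg Additive.ofMul (hm u hu)
    rw [← h2] at h3
    exact h3

/-- **Curtis–Richen for a normal simple subgroup of Lie type in characteristic two.** -/
theorem cr_lie {H : Type u} [Group H] [Finite H] {M : Type v} [Group M] [Finite M] [MulDistribMulAction H M]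
    {K T : Subgroup H} (hK : K.Normal) (hs : IsSimpleGroup K) (hl : IsLieTypeChar 2 K) (hT : IsPGroup 2 T)
    (hTi : ¬ 2 ∣ T.index) (sq : ∀ m : M, m * m = 1)
    (irr : ∀ W : Subgroup M, (∀ k ∈ K, ∀ w ∈ W, k • w ∈ W) → W = ⊥ ∨ W = ⊤) {W : Subgroup M}
    (hW : ∀ w ∈ W, ∀ s ∈ T ⊓ K, s • w = w)
    (hN : ∀ n ∈ normalizer ((T ⊓ K : Subgroup H) : Set H), n ∈ K → ∀ w ∈ W, n • w ∈ W) (hne : W ≠ ⊥) :
    ∀ m : M, (∀ s ∈ T ⊓ K, s • m = m) → m ∈ W := by
  have : Fact (Nat.Prime 2) := ⟨Nat.prime_two⟩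
  have hV : IsPGroup 2 (T.subgroupOf K) := hT.comap_of_injective _ K.subtype_injective
  have h2 : ¬ 2 ∣ (T.subgroupOf K).index := Lib.SylowNormalInf.not_dvd_relIndex (hT.toSylow hTi) K
  intro m hm
  refine cr_split (ML.LieRow.hasSplit_of_lie hl) hV h2 sq (fun W hW => irr W fun k hk w hw => hW ⟨k, hk⟩ w hw)
    (W := W) ?_ ?_ hne m ?_
  · rintro w hw ⟨s, hs'⟩ hsT
    exact hW w hw s ⟨hsT, hs'⟩
  · rintro ⟨n, hn⟩ hnN w hw
    refine hN n ?_ hn w hw
    rw [mem_normalizer_iff] at hnN ⊢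
    intro x
    constructor
    · rintro ⟨hx, hxK⟩
      exact ⟨(hnN ⟨x, hxK⟩).1 hx, hK.conj_mem x hxK n⟩
    · rintro ⟨hx, hxK⟩
      have hxK' : x ∈ K := by
        have := hK.conj_mem _ hxK n⁻¹
        have e : n⁻¹ * (n * x * n⁻¹) * n⁻¹⁻¹ = x := by group
        rwa [e] at this
      exact ⟨(hnN ⟨x, hxK'⟩).2 hx, hxK'⟩
  · rintro ⟨s, hs'⟩ hsT
    exact hm s ⟨hsT, hs'⟩

end Cfsg.Agent.Omega.CR.Bl

end

-- merged: Cfsg.Agent.Mrg.Omega.ML.Ex.IrrK
section

/-!
# THEOREM IRR (helper410, #22122 (A)): in `InX H M K T A` the restriction `M|_K` is irreducible (helper554)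

`H = KT` on the irreducible module `M`, `K ⊴ H` simple, `C_H(K) = 1`.

* `Smp K W` : `W` is an irreducible `K`-submodule;  `exists_compl` : complements;
* `no_inv` (P-ARGUMENT) : no involution of `Aut(M)` centralises `K` [`T` normalises a Sylow 2-subgroup `P` of
  `C_{Aut M}(K)`, `C_M(P)` is a submodule];
* `indep` : different irreducible `K`-submodules are independent;
* `no_dec` (LEMMA B) : no proper decomposition `M = W ⊕ V` into `K`-submodules is normalised by `A`, from (ML);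
* **`InX.irr_K`** : every `K`-submodule of `M` is `⊥` or `⊤`.
`A` need not be an atom.
-/

set_option autoImplicit false

namespace Cfsg.Agent.Omega.ML.Ex.IrrK

open Subgroup Cfsg Cfsg.Agent.Omega.NOThree.NoOver Cfsg.Agent.Omega.ML.CD
open Cfsg.Agent.ZN hiding o2_le le_o2 le_normalizer_o2
open Cfsg.Agent.ClassTwoFusion.Quad Cfsg.Agent.Omega.ML.MinFrame
open Cfsg.Agent.MinSimple.VModule (o2_isPGroup o2_le le_o2 le_normalizer_o2)
open Cfsg.Agent.Omega.ML.Final (MLK sec_KG)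

universe u v

/-! ### subgroups of a commutative group -/

section comm

variable {M : Type v} [Group M]

theorem mem_sup_c (hc : ∀ x y : M, x * y = y * x) {W V : Subgroup M} {x : M} (hx : x ∈ W ⊔ V) :
    ∃ w ∈ W, ∃ v ∈ V, w * v = x := by
  have hN : V.Normal := ⟨fun n hn g => by rwa [hc g n, mul_assoc, mul_inv_cancel, mul_one]⟩
  have h1 : x ∈ ((W ⊔ V : Subgroup M) : Set M) := hx
  rw [Subgroup.mul_normal] at h1
  obtain ⟨w, hw, v, hv, e⟩ := h1
  exact ⟨w, hw, v, hv, e⟩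

theorem uniq {W V : Subgroup M} (h : W ⊓ V = ⊥) {w w' v v' : M} (hw : w ∈ W) (hw' : w' ∈ W)
    (hv : v ∈ V) (hv' : v' ∈ V) (e : w * v = w' * v') : w = w' ∧ v = v' := by
  have h1 : w'⁻¹ * w = v' * v⁻¹ := by
    calc w'⁻¹ * w = w'⁻¹ * (w * v) * v⁻¹ := by group
      _ = w'⁻¹ * (w' * v') * v⁻¹ := by rw [e]
      _ = v' * v⁻¹ := by group
  have h2 : w'⁻¹ * w ∈ W ⊓ V :=
    mem_inf.2 ⟨W.mul_mem (W.inv_mem hw') hw, by rw [h1]; exact V.mul_mem hv' (V.inv_mem hv)⟩
  rw [h, mem_bot] at h2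
  have h3 : w = w' := (inv_mul_eq_one.1 h2).symm
  refine ⟨h3, ?_⟩
  rw [h3] at e
  exact mul_left_cancel e

/-- the projection of `A ⊕ B` to `A` -/
theorem exists_proj {A B : Subgroup M} (h : A ⊓ B = ⊥) : ∃ f : M → M, ∀ a ∈ A, ∀ b ∈ B, f (a * b) = a := by
  classical
  refine ⟨fun x => if hx : ∃ a, a ∈ A ∧ ∃ b, b ∈ B ∧ a * b = x then hx.choose else 1, fun a ha b hb => ?_⟩
  have hx : ∃ a', a' ∈ A ∧ ∃ b', b' ∈ B ∧ a' * b' = a * b := ⟨a, ha, b, hb, rfl⟩
  change (if hx : ∃ a', a' ∈ A ∧ ∃ b', b' ∈ B ∧ a' * b' = a * b then hx.choose else 1) = a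
  rw [dif_pos hx]
  obtain ⟨h1, b', hb', e⟩ := hx.choose_spec
  exact (uniq h h1 ha hb' hb e).1

end comm

/-! ### `K`-submodules -/

variable {H : Type u} [Group H] {M : Type v} [Group M] [MulDistribMulAction H M]

/-- `W` is `K`-invariant -/
def Kin (K : Subgroup H) (W : Subgroup M) : Prop := ∀ k ∈ K, ∀ w ∈ W, k • w ∈ W

theorem Kin.sup {K : Subgroup H} {W V : Subgroup M} (hW : Kin K W) (hV : Kin K V) : Kin K (W ⊔ V) := by
  intro k hk
  have h1 : W ⊔ V ≤ (W ⊔ V).comap (MulDistribMulAction.toMonoidHom M k) :=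
    sup_le (fun w hw => (le_sup_left : W ≤ W ⊔ V) (hW k hk w hw)) fun w hw =>
      (le_sup_right : V ≤ W ⊔ V) (hV k hk w hw)
  exact fun w hw => h1 hw

theorem Kin.inf {K : Subgroup H} {W V : Subgroup M} (hW : Kin K W) (hV : Kin K V) : Kin K (W ⊓ V) :=
  fun k hk w hw => ⟨hW k hk w hw.1, hV k hk w hw.2⟩

theorem Kin.bot {K : Subgroup H} : Kin K (⊥ : Subgroup M) := by
  intro k _ w hw
  rw [mem_bot.1 hw, smul_one]
  exact mem_bot.2 rfl

theorem kin_sSup {K : Subgroup H} {S : Set (Subgroup M)} (hS : ∀ W ∈ S, Kin K W) : Kin K (sSup S) := by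
  intro k hk
  have h1 : sSup S ≤ (sSup S).comap (MulDistribMulAction.toMonoidHom M k) :=
    sSup_le fun W hW w hw => (le_sSup hW) (hS W hW k hk w hw)
  exact fun w hw => h1 hw

/-- irreducible `K`-submodules -/
structure Smp (K : Subgroup H) (W : Subgroup M) : Prop where
  inv : Kin K W
  ne : W ≠ ⊥
  min : ∀ V ≤ W, Kin K V → V = ⊥ ∨ V = W

theorem Smp.le_or {K : Subgroup H} {W V : Subgroup M} (h : Smp K W) (hV : Kin K V) : W ≤ V ∨ W ⊓ V = ⊥ := by
  rcases h.min (W ⊓ V) inf_le_left (h.inv.inf hV) with h1 | h1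
  · exact Or.inr h1
  · exact Or.inl (inf_eq_left.1 h1)

theorem Smp.disj {K : Subgroup H} {W V : Subgroup M} (h : Smp K W) (h' : Smp K V) (hne : W ≠ V) : W ⊓ V = ⊥ := by
  rcases h.le_or h'.inv with h1 | h1
  · rcases h'.min W h1 h.inv with h2 | h2
    · exact absurd h2 h.ne
    · exact absurd h2 hne
  · exact h1

theorem exists_smp [Finite M] {K : Subgroup H} {V : Subgroup M} (hV : Kin K V) (hne : V ≠ ⊥) :
    ∃ W ≤ V, Smp K W := by
  obtain ⟨W, hWm, hmin⟩ := (Set.toFinite {W : Subgroup M | W ≤ V ∧ Kin K W ∧ W ≠ ⊥}).exists_minimal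
    ⟨V, le_rfl, hV, hne⟩
  refine ⟨W, hWm.1, hWm.2.1, hWm.2.2, fun U hU hUK => ?_⟩
  by_cases h0 : U = ⊥
  · exact Or.inl h0
  · exact Or.inr (le_antisymm hU (hmin ⟨hU.trans hWm.1, hUK, h0⟩ hU))

/-- `g W` -/
def gm (g : H) (W : Subgroup M) : Subgroup M := W.map (MulDistribMulAction.toMonoidHom M g)

theorem mem_gm {g : H} {W : Subgroup M} {x : M} : x ∈ gm g W ↔ g⁻¹ • x ∈ W := by
  constructor
  · rintro ⟨w, hw, rfl⟩
    change g⁻¹ • g • w ∈ W
    rwa [inv_smul_smul]
  · intro h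
    exact ⟨_, h, smul_inv_smul g x⟩

theorem smul_mem_gm {g : H} {W : Subgroup M} {x : M} (hx : x ∈ W) : g • x ∈ gm g W := ⟨x, hx, rfl⟩

theorem gm_gm (g k : H) (W : Subgroup M) : gm g (gm k W) = gm (g * k) W := by
  ext x
  rw [mem_gm, mem_gm, mem_gm, mul_inv_rev, mul_smul]

theorem gm_one (W : Subgroup M) : gm (1 : H) W = W := by
  ext x
  rw [mem_gm, inv_one, one_smul]

theorem gm_mono (g : H) {W V : Subgroup M} (h : W ≤ V) : gm g W ≤ gm g V := map_mono h

theorem Kin.gm {K : Subgroup H} (hK : K.Normal) {W : Subgroup M} (hW : Kin K W) (g : H) : Kin K (gm g W) := by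
  intro k hk w hw
  rw [mem_gm] at hw ⊢
  have h1 := hW _ (hK.conj_mem k hk g⁻¹) _ hw
  rwa [inv_inv, ← mul_smul, mul_assoc, mul_assoc, mul_inv_cancel, mul_one, mul_smul] at h1

theorem Smp.gm {K : Subgroup H} (hK : K.Normal) {W : Subgroup M} (hW : Smp K W) (g : H) : Smp K (gm g W) where
  inv := hW.inv.gm hK g
  ne := by
    intro h
    apply hW.ne
    rw [eq_bot_iff]
    intro w hw
    have h1 := smul_mem_gm (g := g) hw
    rw [h, mem_bot] at h1
    rw [mem_bot, ← inv_smul_smul g w, h1, smul_one]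
  min := by
    intro V hV hVK
    have h1 : IrrK.gm g⁻¹ V ≤ W := by
      have := gm_mono g⁻¹ hV
      rwa [gm_gm, inv_mul_cancel, gm_one] at this
    rcases hW.min _ h1 (hVK.gm hK g⁻¹) with h2 | h2
    · left
      have h3 := congrArg (IrrK.gm g) h2
      rw [gm_gm, mul_inv_cancel, gm_one] at h3
      rw [h3]
      exact Subgroup.map_bot _
    · right
      have h3 := congrArg (IrrK.gm g) h2
      rwa [gm_gm, mul_inv_cancel, gm_one] at h3

/-- the stabiliser of `W` -/
def nst (W : Subgroup M) : Subgroup H where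
  carrier := {h | ∀ w : M, h • w ∈ W ↔ w ∈ W}
  one_mem' := fun w => by rw [one_smul]
  mul_mem' := fun {a b} ha hb w => by rw [mul_smul, ha, hb]
  inv_mem' := fun {a} ha w => by rw [← ha (a⁻¹ • w), smul_inv_smul]

theorem mem_nst {W : Subgroup M} {h : H} : h ∈ nst W ↔ ∀ w : M, h • w ∈ W ↔ w ∈ W := Iff.rfl

theorem Kin.le_nst {K : Subgroup H} {W : Subgroup M} (hW : Kin K W) : K ≤ nst W := by
  intro k hk w
  refine ⟨fun h => ?_, hW k hk w⟩
  have h1 := hW k⁻¹ (inv_mem hk) _ h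
  rwa [inv_smul_smul] at h1

theorem mem_nst_of_gm {W : Subgroup M} {h : H} (e : gm h W = W) : h ∈ nst W := by
  intro w
  constructor
  · intro h1
    rw [← e, mem_gm, inv_smul_smul] at h1
    exact h1
  · intro h1
    rw [← e]
    exact smul_mem_gm h1

/-! ### the situation -/

/-- `M` is irreducible for `H = KT`. -/
structure Sit (H : Type u) [Group H] (M : Type v) [Group M] [MulDistribMulAction H M] (K T : Subgroup H) :
    Prop where
  sq : ∀ m : M, m * m = 1
  comm : ∀ x y : M, x * y = y * x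
  faith : ∀ h : H, (∀ m : M, h • m = m) → h = 1
  irr : ∀ W : Subgroup M, (∀ h : H, ∀ w ∈ W, h • w ∈ W) → W = ⊥ ∨ W = ⊤
  norm : K.Normal
  simple : IsSimpleGroup K
  cen : centralizer (K : Set H) = ⊥
  gen : K ⊔ T = ⊤
  two : IsPGroup 2 T
  syl : ¬ 2 ∣ T.index

theorem _root_.Cfsg.Agent.Omega.ML.Ex.InX.sit {K T A : Subgroup H} (h : InX H M K T A) : Sit H M K T where
  sq := h.sq
  comm := h.comm
  faith := h.faith
  irr := h.irr
  norm := h.norm
  simple := h.simple
  cen := h.cen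
  gen := h.gen
  two := h.two
  syl := h.syl

namespace Sit

variable {K T : Subgroup H} (s : Sit H M K T)
include s

/-- `C_M(K) = 1` -/
theorem cv_K : cv M (K : Set H) = ⊥ := by
  have hK := s.norm
  rcases s.irr (cv M (K : Set H)) (by
    intro g w hw k hk
    have h1 := hw (g⁻¹ * k * g) (by
      have := hK.conj_mem k hk g⁻¹
      rwa [inv_inv] at this)
    rw [mul_smul, mul_smul, inv_smul_eq_iff] at h1
    exact h1) with h1 | h1
  · exact h1
  · exfalso
    have hs := s.simple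
    obtain ⟨x, hx⟩ := exists_ne (1 : K)
    exact hx (Subtype.ext (s.faith x fun m => (h1 ▸ mem_top m : m ∈ cv M (K : Set H)) x x.2))

/-- `N_H(W) ∩ C_H(W) = 1` for a `K`-submodule `W ≠ 1` -/
theorem fix_bot {W : Subgroup M} (hW : Kin K W) (hne : W ≠ ⊥) {x : H}
    (hf : ∀ w ∈ W, x • w = w) : x = 1 := by
  have hs := s.simple
  have hK := s.norm
  -- `C_K(W) = 1`
  have h1 : ∀ k ∈ K, (∀ w ∈ W, k • w = w) → k = 1 := by
    have hN : ((fxr H W).subgroupOf K).Normal := by
      refine ⟨fun n hn g => ?_⟩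
      exact conj_mem_fxr (R := K) hW g.2 hn
    rcases hN.eq_bot_or_eq_top with h | h
    · intro k hk hkW
      have h2 : (⟨k, hk⟩ : K) ∈ (fxr H W).subgroupOf K := hkW
      rw [h, mem_bot] at h2
      exact congrArg Subtype.val h2
    · exfalso
      apply hne
      rw [eq_bot_iff, ← s.cv_K]
      intro w hw k hk
      have h2 : (⟨k, hk⟩ : K) ∈ (fxr H W).subgroupOf K := h ▸ mem_top _
      exact h2 w hw
  have h2 : x ∈ centralizer (K : Set H) := by
    refine mem_centralizer_iff.2 fun k hk => ?_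
    have h3 : x⁻¹ * k * x * k⁻¹ ∈ K := by
      refine mul_mem ?_ (inv_mem hk)
      have := hK.conj_mem k hk x⁻¹
      rwa [inv_inv] at this
    have h4 : x⁻¹ * k * x * k⁻¹ = 1 := by
      refine h1 _ h3 fun w hw => ?_
      have hkw : k⁻¹ • w ∈ W := hW _ (inv_mem hk) w hw
      rw [mul_smul, mul_smul, mul_smul, hf _ hkw, smul_inv_smul, inv_smul_eq_iff, hf w hw]
    have h5 : x⁻¹ * k * x = k := by rwa [mul_inv_eq_one] at h4
    calc k * x = x * (x⁻¹ * k * x) := by group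
      _ = x * k := by rw [h5]
  rw [s.cen, mem_bot] at h2
  exact h2

/-- every `K`-submodule containing all conjugates of `W ≠ 1` is `M` -/
theorem top_of_conj {W V : Subgroup M} (hne : W ≠ ⊥) (h : ∀ g : H, gm g W ≤ V) : V = ⊤ := by
  have h1 : (⨆ g : H, gm g W) = ⊤ := by
    rcases s.irr (⨆ g : H, gm g W) (by
      intro x
      have h2 : (⨆ g : H, gm g W) ≤ (⨆ g : H, gm g W).comap (MulDistribMulAction.toMonoidHom M x) := by
        refine iSup_le fun g w hw => ?_
        change x • w ∈ ⨆ g : H, gm g W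
        refine (le_iSup (fun g : H => gm g W) (x * g)) ?_
        rw [← gm_gm]
        exact smul_mem_gm hw
      exact fun w hw => h2 hw) with h3 | h3
    · exfalso
      apply hne
      rw [eq_bot_iff, ← h3]
      have := le_iSup (fun g : H => gm g W) 1
      rwa [gm_one] at this
    · exact h3
  rw [eq_top_iff, ← h1]
  exact iSup_le h

/-- **complements** -/
theorem exists_compl [Finite M] {N W : Subgroup M} (hN : Kin K N) (hW : Kin K W) (h : N ⊓ W = ⊥) (hW0 : W ≠ ⊥) :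
    ∃ C : Subgroup M, Kin K C ∧ N ≤ C ∧ W ⊓ C = ⊥ ∧ W ⊔ C = ⊤ := by
  obtain ⟨C, ⟨hCK, hNC, hCW⟩, hmax⟩ := (Set.toFinite {C : Subgroup M | Kin K C ∧ N ≤ C ∧ C ⊓ W = ⊥}).exists_maximal
    ⟨N, hN, le_rfl, h⟩
  obtain ⟨Y, -, hY⟩ := exists_smp hW hW0
  refine ⟨C, hCK, hNC, by rwa [inf_comm], ?_⟩
  refine s.top_of_conj hY.ne fun g => ?_
  have hYg := hY.gm s.norm g
  rcases hYg.le_or (hW.sup hCK) with h1 | h1
  · exact h1
  exfalso
  have h2 : gm g Y ⊓ W = ⊥ := by
    rw [eq_bot_iff, ← h1]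
    exact inf_le_inf le_rfl le_sup_left
  have h3 : (C ⊔ gm g Y) ⊓ W = ⊥ := by
    rw [eq_bot_iff]
    rintro w ⟨hw, hwW⟩
    obtain ⟨c, hc, y, hy, rfl⟩ := mem_sup_c s.comm hw
    have h4 : y ∈ gm g Y ⊓ (W ⊔ C) := by
      refine ⟨hy, ?_⟩
      have e : y = c⁻¹ * (c * y) := by group
      rw [e]
      exact mul_mem ((le_sup_right : C ≤ W ⊔ C) (inv_mem hc)) ((le_sup_left : W ≤ W ⊔ C) hwW)
    rw [h1, mem_bot] at h4
    rw [h4, mul_one] at hwW ⊢
    have h5 : c ∈ C ⊓ W := ⟨hc, hwW⟩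
    rwa [hCW] at h5
  have h4 := hmax ⟨hCK.sup hYg.inv, hNC.trans le_sup_left, h3⟩ le_sup_left
  have h5 : gm g Y ≤ W ⊔ C := (le_sup_right.trans h4).trans le_sup_right
  rw [inf_eq_left.2 h5] at h1
  exact hYg.ne h1

/-- **the P-argument**: no involution of `Aut(M)` centralises `K` -/
theorem no_inv [Finite M] (φ : MulAut M) (hφ : ∀ k ∈ K, ∀ m : M, φ (k • m) = k • φ m) (h2 : φ * φ = 1) :
    φ = 1 := by
  by_contra hne
  have hK := s.norm
  have hM0 : (⊤ : Subgroup M) ≠ ⊥ := by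
    intro h0
    apply hne
    refine MulEquiv.ext fun m => ?_
    have h1 : ∀ x : M, x = 1 := fun x => by
      have : x ∈ (⊤ : Subgroup M) := mem_top x
      rwa [h0, mem_bot] at this
    rw [h1 (φ m), h1 ((1 : MulAut M) m)]
  have hfinA : Finite (MulAut M) := inferInstance
  let ρ : H →* MulAut M := MulDistribMulAction.toMulAut H M
  have hρ : ∀ (h : H) (m : M), ρ h m = h • m := fun _ _ => rfl
  set C : Subgroup (MulAut M) := centralizer ((K.map ρ : Subgroup (MulAut M)) : Set (MulAut M)) with hC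
  have hφC : φ ∈ C := by
    refine mem_centralizer_iff.2 ?_
    rintro _ ⟨k, hk, rfl⟩
    refine MulEquiv.ext fun m => ?_
    change k • φ m = φ (k • m)
    exact (hφ k hk m).symm
  set T' : Subgroup (MulAut M) := T.map ρ with hT'
  have hTC : T' ≤ normalizer (C : Set (MulAut M)) := by
    rintro _ ⟨t, ht, rfl⟩
    have key : ∀ g : H, ∀ c ∈ C, ρ g * c * (ρ g)⁻¹ ∈ C := by
      intro g c hc
      refine mem_centralizer_iff.2 ?_
      rintro _ ⟨k, hk, rfl⟩
      have h3 : g⁻¹ * k * g ∈ K := by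
        have := hK.conj_mem k hk g⁻¹
        rwa [inv_inv] at this
      have h4 : ρ (g⁻¹ * k * g) * c = c * ρ (g⁻¹ * k * g) := mem_centralizer_iff.1 hc _ ⟨_, h3, rfl⟩
      have h5 : ρ k = ρ g * ρ (g⁻¹ * k * g) * (ρ g)⁻¹ := by
        rw [map_mul, map_mul, map_inv]; group
      rw [h5]
      calc ρ g * ρ (g⁻¹ * k * g) * (ρ g)⁻¹ * (ρ g * c * (ρ g)⁻¹) = ρ g * (ρ (g⁻¹ * k * g) * c) * (ρ g)⁻¹ := by group
        _ = ρ g * (c * ρ (g⁻¹ * k * g)) * (ρ g)⁻¹ := by rw [h4]
        _ = _ := by group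
    rw [mem_normalizer_iff]
    refine fun c => ⟨key t c, fun hc => ?_⟩
    have h6 := key t⁻¹ _ hc
    rw [map_inv, inv_inv] at h6
    have e : (ρ t)⁻¹ * (ρ t * c * (ρ t)⁻¹) * ρ t = c := by group
    rwa [e] at h6
  obtain ⟨S', hS', hTS'⟩ := ChoiceSit.exists_syl (T := T') (X := C ⊔ T') (s.two.map ρ) le_sup_right
  -- `P = S' ∩ C` is a Sylow subgroup of `C`
  have hodd : ¬ 2 ∣ (S' ⊓ C).relIndex C := by
    have hSC : S' ≤ normalizer (C : Set (MulAut M)) := hS'.1.trans (sup_le le_normalizer hTC)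
    intro h3
    apply ChoiceSit.syl_not_dvd hS'
    have hKS : C ⊔ T' = C ⊔ S' := le_antisymm (sup_le le_sup_left (hTS'.trans le_sup_right)) (sup_le le_sup_left hS'.1)
    rw [hKS]
    have h4 : (C.subgroupOf (C ⊔ S')).Normal :=
      normal_subgroupOf_of_le_normalizer (sup_le le_normalizer hSC)
    have e1 : Nat.card S' * S'.relIndex (C ⊔ S') = Nat.card (C ⊔ S' : Subgroup (MulAut M)) := by
      have := relIndex_mul_relIndex ⊥ S' (C ⊔ S') bot_le le_sup_right
      rwa [relIndex_bot_left, relIndex_bot_left] at this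
    have e2 : Nat.card C * C.relIndex (C ⊔ S') = Nat.card (C ⊔ S' : Subgroup (MulAut M)) := by
      have := relIndex_mul_relIndex ⊥ C (C ⊔ S') bot_le le_sup_left
      rwa [relIndex_bot_left, relIndex_bot_left] at this
    have e3 : Nat.card (S' ⊓ C : Subgroup (MulAut M)) * (S' ⊓ C).relIndex C = Nat.card C := by
      have := relIndex_mul_relIndex ⊥ (S' ⊓ C) C bot_le inf_le_right
      rwa [relIndex_bot_left, relIndex_bot_left] at this
    have e4 : Nat.card (S' ⊓ C : Subgroup (MulAut M)) * (S' ⊓ C).relIndex S' = Nat.card S' := by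
      have := relIndex_mul_relIndex ⊥ (S' ⊓ C) S' bot_le inf_le_left
      rwa [relIndex_bot_left, relIndex_bot_left] at this
    have e5 : C.relIndex (C ⊔ S') = (S' ⊓ C).relIndex S' := by
      have h5 := relIndex_sup_left (S'.subgroupOf (C ⊔ S')) (C.subgroupOf (C ⊔ S'))
      rw [← Subgroup.subgroupOf_sup le_sup_left le_sup_right, Subgroup.subgroupOf_self,
        Subgroup.relIndex_subgroupOf le_sup_right, relIndex_top_right] at h5
      rw [inf_relIndex_left, ← h5]
      rfl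
    have h6 : S'.relIndex (C ⊔ S') = (S' ⊓ C).relIndex C := by
      have h7 : 0 < Nat.card S' := Nat.card_pos
      apply Nat.eq_of_mul_eq_mul_left h7
      rw [e1, ← e2, e5, ← e3]
      calc _ = Nat.card (S' ⊓ C : Subgroup (MulAut M)) * (S' ⊓ C).relIndex S' * (S' ⊓ C).relIndex C := by ring
        _ = _ := by rw [e4]
    rwa [h6]
  have hPne : S' ⊓ C ≠ ⊥ := by
    intro h3
    rw [h3, relIndex_bot_left] at hodd
    apply hodd
    have h4 : orderOf (⟨φ, hφC⟩ : C) = 2 := by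
      refine orderOf_eq_prime ?_ fun h5 => hne (congrArg Subtype.val h5)
      rw [pow_two]
      exact Subtype.ext h2
    rw [← h4]
    exact orderOf_dvd_natCard _
  have hP2 : IsPGroup 2 (S' ⊓ C : Subgroup (MulAut M)) := hS'.2.1.to_le inf_le_left
  obtain ⟨w, -, hw1, hw⟩ := MinFrame.exists_fixed (H := MulAut M) s.sq hP2 (W := (⊤ : Subgroup M)) hM0
    fun _ _ _ _ => mem_top _
  -- `C_M(P)` is invariant
  let F : Subgroup M := cv M ((S' ⊓ C : Subgroup (MulAut M)) : Set (MulAut M))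
  have hFK : ∀ k ∈ K, ∀ m ∈ F, k • m ∈ F := by
    intro k hk m hm p hp
    have h3 : ρ k * p = p * ρ k := mem_centralizer_iff.1 hp.2 _ ⟨k, hk, rfl⟩
    change p (ρ k m) = ρ k m
    rw [← MulAut.mul_apply, ← h3, MulAut.mul_apply]
    exact congrArg (ρ k) (hm p hp)
  have hFT : ∀ t ∈ T, ∀ m ∈ F, t • m ∈ F := by
    intro t ht m hm p hp
    have h3 : (ρ t)⁻¹ * p * ρ t ∈ S' ⊓ C := by
      refine ⟨S'.mul_mem (S'.mul_mem (S'.inv_mem (hTS' ⟨t, ht, rfl⟩)) hp.1) (hTS' ⟨t, ht, rfl⟩), ?_⟩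
      exact (mem_normalizer_iff''.1 (hTC ⟨t, ht, rfl⟩) p).1 hp.2
    change p (ρ t m) = ρ t m
    have h4 : p (ρ t m) = ρ t (((ρ t)⁻¹ * p * ρ t) m) := by
      rw [← MulAut.mul_apply, ← MulAut.mul_apply]
      congr 1
      group
    rw [h4]
    exact congrArg (ρ t) (hm _ h3)
  have hFH : ∀ h : H, ∀ m ∈ F, h • m ∈ F := by
    have h3 : K ⊔ T ≤ nst F := by
      refine sup_le (Kin.le_nst hFK) (Kin.le_nst hFT)
    intro h m hm
    rw [s.gen] at h3
    exact (h3 (mem_top h) m).2 hm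
  rcases s.irr F hFH with h3 | h3
  · exact hw1 (by
      have h4 : w ∈ F := fun p hp => hw p hp
      rwa [h3, mem_bot] at h4)
  · apply hPne
    rw [eq_bot_iff]
    intro p hp
    rw [mem_bot]
    refine MulEquiv.ext fun m => ?_
    have h4 : m ∈ F := by rw [h3]; exact mem_top m
    exact h4 p hp

/-- **no twisted diagonal** -/
theorem no_tw [Finite M] {N W V : Subgroup M} (hN : Kin K N) (hW : Smp K W) (hV : Smp K V) (hWV : W ≠ V)
    (hNW : N ⊓ W = ⊥) (hNV : N ⊓ V = ⊥) (hle : W ≤ N ⊔ V) : False := by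
  obtain ⟨C, hC, hNC, hWC, hWC'⟩ := s.exists_compl hN hW.inv hNW hW.ne
  obtain ⟨f, hf⟩ := exists_proj hWC
  obtain ⟨g, hg⟩ := exists_proj hNV
  -- decomposition
  have dec : ∀ x : M, ∃ w ∈ W, ∃ c ∈ C, w * c = x := fun x => mem_sup_c s.comm (hWC'.ge (mem_top x))
  have dec' : ∀ x ∈ W, ∃ n ∈ N, ∃ v ∈ V, n * v = x := fun x hx => mem_sup_c s.comm (hle hx)
  have hinv : ∀ x : M, x⁻¹ = x := fun x => inv_eq_of_mul_eq_one_right (s.sq x)
  have fm : ∀ x y : M, f (x * y) = f x * f y := by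
    intro x y
    obtain ⟨w, hw, c, hc, rfl⟩ := dec x
    obtain ⟨w', hw', c', hc', rfl⟩ := dec y
    have e : w * c * (w' * c') = w * w' * (c * c') := by
      calc w * c * (w' * c') = w * (c * w') * c' := by group
        _ = w * (w' * c) * c' := by rw [s.comm c w']
        _ = _ := by group
    rw [e, hf _ (W.mul_mem hw hw') _ (C.mul_mem hc hc'), hf w hw c hc, hf w' hw' c' hc']
  have fW : ∀ x : M, f x ∈ W := by
    intro x
    obtain ⟨w, hw, c, hc, rfl⟩ := dec x
    rwa [hf w hw c hc]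
  have gm : ∀ x ∈ W, ∀ y ∈ W, g (x * y) = g x * g y := by
    intro x hx y hy
    obtain ⟨w, hw, c, hc, rfl⟩ := dec' x hx
    obtain ⟨w', hw', c', hc', rfl⟩ := dec' y hy
    have e : w * c * (w' * c') = w * w' * (c * c') := by
      calc w * c * (w' * c') = w * (c * w') * c' := by group
        _ = w * (w' * c) * c' := by rw [s.comm c w']
        _ = _ := by group
    rw [e, hg _ (N.mul_mem hw hw') _ (V.mul_mem hc hc'), hg w hw c hc, hg w' hw' c' hc']
  have gN : ∀ x ∈ W, g x ∈ N := by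
    intro x hx
    obtain ⟨w, hw, c, hc, rfl⟩ := dec' x hx
    rwa [hg w hw c hc]
  have fk : ∀ k ∈ K, ∀ x : M, f (k • x) = k • f x := by
    intro k hk x
    obtain ⟨w, hw, c, hc, rfl⟩ := dec x
    rw [smul_mul', hf _ (hW.inv k hk w hw) _ (hC k hk c hc), hf w hw c hc]
  have gk : ∀ k ∈ K, ∀ x ∈ W, g (k • x) = k • g x := by
    intro k hk x hx
    obtain ⟨w, hw, c, hc, rfl⟩ := dec' x hx
    rw [smul_mul', hg _ (hN k hk w hw) _ (hV.inv k hk c hc), hg w hw c hc]
  have f1 : ∀ c ∈ C, f c = 1 := by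
    intro c hc
    have := hf 1 W.one_mem c hc
    rwa [one_mul] at this
  have g1 : g 1 = 1 := by
    have := hg 1 N.one_mem 1 V.one_mem
    rwa [one_mul] at this
  -- `φ = 1 + g f`
  let φ : M →* M :=
    { toFun := fun x => x * g (f x)
      map_one' := by rw [f1 1 C.one_mem, g1, mul_one]
      map_mul' := fun x y => by
        rw [fm, gm _ (fW x) _ (fW y)]
        calc x * y * (g (f x) * g (f y)) = x * (y * g (f x)) * g (f y) := by group
          _ = x * (g (f x) * y) * g (f y) := by rw [s.comm y]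
          _ = _ := by group }
  have hφ : ∀ x, φ x = x * g (f x) := fun _ => rfl
  have hφφ : ∀ x, φ (φ x) = x := by
    intro x
    rw [hφ, hφ, fm, f1 (g (f x)) (hNC (gN _ (fW x))), mul_one, mul_assoc, s.sq, mul_one]
  let Φ : MulAut M :=
    { toFun := φ
      invFun := φ
      left_inv := hφφ
      right_inv := hφφ
      map_mul' := map_mul φ }
  have h1 := s.no_inv Φ (by
    intro k hk m
    change k • m * g (f (k • m)) = k • (m * g (f m))
    rw [smul_mul', fk k hk, gk k hk _ (fW m)]) (by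
    refine MulEquiv.ext fun m => ?_
    exact hφφ m)
  -- so `W ≤ V`
  have h2 : W ≤ V := by
    intro w hw
    have h3 : φ w = w := by
      have := congrArg (fun Ψ : MulAut M => Ψ w) h1
      exact this
    have h4 : f w = w := by
      have := hf w hw 1 C.one_mem
      rwa [mul_one] at this
    rw [hφ, h4, mul_eq_left] at h3
    obtain ⟨n, hn, v, hv, rfl⟩ := dec' w hw
    rw [hg n hn v hv] at h3
    rw [h3, one_mul]
    exact hv
  rcases hV.min W h2 hW.inv with h3 | h3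
  · exact hW.ne h3
  · exact hWV h3

/-- different irreducible `K`-submodules are independent -/
theorem indep_finset [Finite M] {W : Subgroup M} (hW : Smp K W) (J : Finset (Subgroup M))
    (hJ : ∀ V ∈ J, Smp K V) (hWJ : W ∉ J) : W ⊓ J.sup id = ⊥ := by
  classical
  induction J using Finset.induction_on with
  | empty => rw [Finset.sup_empty, inf_bot_eq]
  | insert V J hVJ ih =>
    have h1 := ih (fun U hU => hJ U (Finset.mem_insert_of_mem hU)) fun h => hWJ (Finset.mem_insert_of_mem h)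
    have hV := hJ V (Finset.mem_insert_self V J)
    have hWV : W ≠ V := fun h => hWJ (h ▸ Finset.mem_insert_self V J)
    have hN : Kin K (J.sup id) := by
      rw [Finset.sup_id_eq_sSup]
      exact kin_sSup fun U hU => (hJ U (Finset.mem_insert_of_mem hU)).inv
    rw [Finset.sup_insert, id]
    rcases hV.le_or hN with h2 | h2
    · rwa [sup_eq_right.2 h2]
    · rcases hW.le_or (hV.inv.sup hN) with h3 | h3
      · exact (s.no_tw hN hW hV hWV (by rwa [inf_comm]) (by rwa [inf_comm]) (by rwa [sup_comm])).elim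
      · exact h3

/-- the sum of the other irreducible `K`-submodules -/
def oth (K : Subgroup H) (W : Subgroup M) : Subgroup M := sSup {V | Smp K V ∧ V ≠ W}

omit s in
theorem le_oth {W V : Subgroup M} (hV : Smp K V) (hne : V ≠ W) : V ≤ oth K W := le_sSup ⟨hV, hne⟩

omit s in
theorem kin_oth {W : Subgroup M} : Kin K (oth K W) := kin_sSup fun _ hV => hV.1.inv

theorem inf_oth [Finite M] {W : Subgroup M} (hW : Smp K W) : W ⊓ oth K W = ⊥ := by
  classical
  have hfin := Set.toFinite {V : Subgroup M | Smp K V ∧ V ≠ W}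
  have h1 := s.indep_finset hW hfin.toFinset (fun V hV => ((Set.Finite.mem_toFinset hfin).1 hV).1)
    fun h => ((Set.Finite.mem_toFinset hfin).1 h).2 rfl
  rwa [Finset.sup_id_eq_sSup, Set.Finite.coe_toFinset] at h1

theorem sup_oth {W : Subgroup M} (hW : Smp K W) : W ⊔ oth K W = ⊤ := by
  refine s.top_of_conj hW.ne fun g => ?_
  by_cases h : gm g W = W
  · rw [h]; exact le_sup_left
  · exact (le_oth (hW.gm s.norm g) h).trans le_sup_right

theorem nst_oth {W : Subgroup M} {h : H} (e : gm h W = W) : gm h (oth K W) ≤ oth K W := by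
  have h1 : oth K W ≤ (oth K W).comap (MulDistribMulAction.toMonoidHom M h) := by
    refine sSup_le ?_
    rintro V ⟨hV, hVW⟩ v hv
    have h2 : gm h V ≠ W := by
      intro h3
      apply hVW
      have h4 := congrArg (gm h⁻¹) (h3.trans e.symm)
      rwa [gm_gm, gm_gm, inv_mul_cancel, gm_one, gm_one] at h4
    exact le_oth (hV.gm s.norm h) h2 (smul_mem_gm hv)
  rintro _ ⟨v, hv, rfl⟩
  exact h1 hv

end Sit

/-! ### exact subgroups -/

/-- an exact subgroup `A ≠ 1`, sub-exact and low -/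
structure Exa (H : Type u) [Group H] (M : Type v) [Group M] [MulDistribMulAction H M] (T A : Subgroup H) :
    Prop where
  AT : A ≤ T
  ne : A ≠ ⊥
  el : ∀ a ∈ A, a * a = 1
  exact : (cv M (A : Set H)).index = Nat.card A
  sub : ∀ C : Subgroup H, C ≤ A → Nat.card C ≤ (cv M (C : Set H)).index
  low : ∀ R : Subgroup H, T ≤ R → R ≠ ⊤ → A ≤ o2 R

theorem card_relIndex {G : Type*} [Group G] {B C : Subgroup G} (h : B ≤ C) :
    Nat.card B * B.relIndex C = Nat.card C := by
  have := relIndex_mul_relIndex ⊥ B C bot_le h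
  rwa [relIndex_bot_left, relIndex_bot_left] at this

/-- `T₁` is a Sylow subgroup of `K T₁` if `T ∩ K ≤ T₁ ≤ T` -/
theorem odd_sup [Finite H] {K T T₁ : Subgroup H} (hK : K.Normal) (hT : ¬ 2 ∣ T.index)
    (h1 : T ⊓ K ≤ T₁) (h2 : T₁ ≤ T) : ¬ 2 ∣ T₁.relIndex (K ⊔ T₁) := by
  have e5 : ∀ S : Subgroup H, K.relIndex (K ⊔ S) = (S ⊓ K).relIndex S := by
    intro S
    have h5 := relIndex_sup_left (S.subgroupOf (K ⊔ S)) (K.subgroupOf (K ⊔ S))
    rw [← Subgroup.subgroupOf_sup le_sup_left le_sup_right, Subgroup.subgroupOf_self,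
      Subgroup.relIndex_subgroupOf le_sup_right, relIndex_top_right] at h5
    rw [inf_relIndex_left, ← h5]
    rfl
  have e6 : ∀ S : Subgroup H, S.relIndex (K ⊔ S) = (S ⊓ K).relIndex K := by
    intro S
    have a1 := card_relIndex (show S ≤ K ⊔ S from le_sup_right)
    have a2 := card_relIndex (show K ≤ K ⊔ S from le_sup_left)
    have a3 := card_relIndex (show S ⊓ K ≤ K from inf_le_right)
    have a4 := card_relIndex (show S ⊓ K ≤ S from inf_le_left)
    have h7 : 0 < Nat.card S := Nat.card_pos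
    apply Nat.eq_of_mul_eq_mul_left h7
    rw [a1, ← a2, e5, ← a3]
    calc _ = Nat.card (S ⊓ K : Subgroup H) * (S ⊓ K).relIndex S * (S ⊓ K).relIndex K := by ring
      _ = _ := by rw [a4]
  have h3 : T₁ ⊓ K = T ⊓ K := le_antisymm (inf_le_inf_right K h2) (le_inf h1 inf_le_right)
  rw [e6, h3, ← e6]
  intro h4
  apply hT
  have h5 : T.relIndex (K ⊔ T) * (K ⊔ T).index = T.index := relIndex_mul_index le_sup_right
  exact Dvd.dvd.trans h4 (Dvd.intro _ h5)

/-- (ML) for subgroups and submodules -/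
theorem rel_of_mlk (ml : MLK.{u, v}) [Finite H] [Finite M] (sq : ∀ m : M, m * m = 1) (hKG : IsKGroup H)
    (R : Subgroup H) : Rel False R (⊤ : Subgroup M) :=
  rel_of (MonoidHom.id R) (fun x => ⟨x, rfl⟩) (MonoidHom.id M) (fun _ _ h => h) (fun m _ => ⟨m, rfl⟩)
    (fun _ _ => rfl) (ml R M (sec_KG.sub H hKG R) sq)

/-- **LEMMA B**: no decomposition `M = W ⊕ V` into `K`-submodules is normalised by `A`. -/
theorem no_dec (ml : MLK.{u, v}) [Finite H] [Finite M] (hKG : IsKGroup H) {K T A : Subgroup H}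
    (s : Sit H M K T) (e : Exa H M T A) {W V : Subgroup M} (hW : Kin K W) (hV : Kin K V) (hWV : W ⊓ V = ⊥)
    (hsup : W ⊔ V = ⊤) (hW0 : W ≠ ⊥) (hV0 : V ≠ ⊥) (hAW : A ≤ nst W) (hAV : A ≤ nst V) : False := by
  have hK := s.norm
  have hinv : ∀ x : M, x⁻¹ = x := fun x => inv_eq_of_mul_eq_one_right (s.sq x)
  have hM0 : (⊤ : Subgroup M) ≠ ⊥ := fun h0 => hW0 (le_bot_iff.1 (h0 ▸ le_top))
  obtain ⟨v, -, hv1, hvT⟩ := MinFrame.exists_fixed (H := H) s.sq s.two (W := (⊤ : Subgroup M)) hM0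
    fun _ _ _ _ => mem_top _
  -- `M = ⟨v^K⟩`
  have horb : orb K v = ⊤ := by
    have hinvK : K ≤ nst (orb K v) := Kin.le_nst fun k hk m hm => smul_mem_orb hk hm
    have hinvT : T ≤ nst (orb K v) := by
      refine Kin.le_nst fun t ht => ?_
      have h1 : orb K v ≤ (orb K v).comap (MulDistribMulAction.toMonoidHom M t) := by
        refine orb_le fun k hk => ?_
        change t • k • v ∈ orb K v
        have h2 : t • k • v = (t * k * t⁻¹) • v := by
          rw [mul_smul, mul_smul]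
          congr 2
          rw [eq_inv_smul_iff]
          exact hvT t ht
        rw [h2]
        exact smul_mem_orb_self (hK.conj_mem k hk t)
      exact fun m hm => h1 hm
    rcases s.irr (orb K v) (by
      have h3 : K ⊔ T ≤ nst (orb K v) := sup_le hinvK hinvT
      rw [s.gen] at h3
      exact fun h w hw => (h3 (mem_top h) w).2 hw) with h1 | h1
    · exfalso
      apply hv1
      have := mem_orb_self K v
      rwa [h1, mem_bot] at this
    · exact h1
  have hst : MulAction.stabilizer H v ≠ ⊤ := by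
    intro h1
    apply hv1
    have h2 : v ∈ cv M (K : Set H) := fun k _ => by
      have : k ∈ MulAction.stabilizer H v := h1 ▸ mem_top k
      exact this
    rwa [s.cv_K, mem_bot] at h2
  have hTst : T ≤ MulAction.stabilizer H v := fun t ht => hvT t ht
  have hAo : A ≤ o2 (MulAction.stabilizer H v) := e.low _ hTst hst
  -- the decomposition of `v`
  obtain ⟨v₁, hv₁, v₂, hv₂, hvv⟩ := mem_sup_c s.comm (hsup.ge (mem_top v))
  set T₁ : Subgroup H := T ⊓ (nst W ⊓ nst V) with hT₁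
  have hAT₁ : A ≤ T₁ := le_inf e.AT (le_inf hAW hAV)
  have hTK : T ⊓ K ≤ T₁ := le_inf inf_le_left (inf_le_right.trans (le_inf hW.le_nst hV.le_nst))
  set X₁ : Subgroup H := K ⊔ T₁ with hX₁
  have hX₁W : X₁ ≤ nst W := sup_le hW.le_nst (inf_le_right.trans inf_le_left)
  have hX₁V : X₁ ≤ nst V := sup_le hV.le_nst (inf_le_right.trans inf_le_right)
  have hfix₁ : ∀ t ∈ T₁, t • v₁ = v₁ := by
    intro t ht
    have h1 : (t • v₁) * (t • v₂) = v₁ * v₂ := by rw [← smul_mul', hvv, hvT t ht.1]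
    exact (uniq hWV ((ht.2.1 v₁).2 hv₁) hv₁ ((ht.2.2 v₂).2 hv₂) hv₂ h1).1
  set R₁ : Subgroup H := X₁ ⊓ MulAction.stabilizer H v₁ with hR₁
  have hT₁R₁ : T₁ ≤ R₁ := le_inf le_sup_right fun t ht => hfix₁ t ht
  have hT₁X₁ : ¬ 2 ∣ T₁.relIndex X₁ := odd_sup hK s.syl hTK inf_le_left
  have hT₁R₁' : ¬ 2 ∣ T₁.relIndex R₁ := by
    intro h1
    apply hT₁X₁
    have h2 : T₁.relIndex R₁ * R₁.relIndex X₁ = T₁.relIndex X₁ :=
      relIndex_mul_relIndex _ _ _ hT₁R₁ inf_le_left
    exact Dvd.dvd.trans h1 (Dvd.intro _ h2)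
  have hT₁2 : IsPGroup 2 T₁ := s.two.to_le inf_le_left
  set O := o2 (MulAction.stabilizer H v) with hO
  have hO2 : IsPGroup 2 O := o2_isPGroup _
  have hOle : O ≤ MulAction.stabilizer H v := o2_le _
  have hOn : MulAction.stabilizer H v ≤ normalizer (O : Set H) := le_normalizer_o2 _
  -- (ML) for `R₁` and `U = ⟨v^R₁⟩`
  set U := orb R₁ v with hU
  have ml1 : (fxr H U).relIndex A ≤ (cv M (A : Set H)).relIndex U :=
    rel_of_mlk ml s.sq hKG R₁ T₁ (O ⊓ R₁) A v (mem_top v) hT₁2 hT₁R₁ hT₁R₁' (fun t ht => hvT t ht.1)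
      (hO2.to_le inf_le_left) inf_le_right (fun q hq => hOle hq.1)
      (fun g hg hgv q hq => ⟨(mem_normalizer_iff.1 (hOn hgv) q).1 hq.1,
        R₁.mul_mem (R₁.mul_mem hg hq.2) (R₁.inv_mem hg)⟩)
      (le_inf hAo (hAT₁.trans hT₁R₁)) e.el fun h => h.elim
  set D : Subgroup H := A ⊓ fxr H U with hD
  have hDA : D ≤ A := inf_le_left
  have hUD : U ≤ cv M (D : Set H) := cv_inf_eq_iff.2 inf_le_right
  have hcle : cv M (A : Set H) ≤ cv M (D : Set H) := cv_anti (SetLike.coe_subset_coe.2 hDA)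
  have c1 : (cv M (A : Set H)).relIndex (cv M (D : Set H)) * (cv M (D : Set H)).index = Nat.card A := by
    rw [← e.exact]
    exact relIndex_mul_index hcle
  have c2 : Nat.card D * (fxr H U).relIndex A = Nat.card A := by
    have := card_relIndex hDA
    rwa [hD, inf_relIndex_left] at this
  have c3 : (cv M (A : Set H)).relIndex U ≤ (cv M (A : Set H)).relIndex (cv M (D : Set H)) :=
    relIndex_le_of_le_right hUD (relIndex_ne _ _)
  have c4 := e.sub D hDA
  have hDpos : 0 < Nat.card D := Nat.card_pos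
  have hApos : 0 < Nat.card A := Nat.card_pos
  -- equalities
  have c5 : (cv M (D : Set H)).index = Nat.card D := by
    refine le_antisymm ?_ c4
    by_contra hc
    push Not at hc
    have h1 : (fxr H U).relIndex A ≤ (cv M (A : Set H)).relIndex (cv M (D : Set H)) := ml1.trans c3
    have h2 : 0 < (fxr H U).relIndex A := Nat.pos_of_ne_zero (relIndex_ne _ _)
    have h3 : Nat.card A < Nat.card A := by
      calc Nat.card A = Nat.card D * (fxr H U).relIndex A := c2.symm
        _ < (cv M (D : Set H)).index * (fxr H U).relIndex A := Nat.mul_lt_mul_of_pos_right hc h2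
        _ ≤ (cv M (D : Set H)).index * (cv M (A : Set H)).relIndex (cv M (D : Set H)) :=
          Nat.mul_le_mul_left _ h1
        _ = Nat.card A := by rw [mul_comm, c1]
    exact lt_irrefl _ h3
  -- `D ≤ O₂(C_{R₁}(U))`
  set N : Subgroup H := R₁ ⊓ fxr H U with hN
  have hUR : ∀ g ∈ R₁, ∀ m ∈ U, g • m ∈ U := fun g hg m hm => smul_mem_orb hg hm
  have hNn : R₁ ≤ normalizer (N : Set H) := by
    intro g hg
    rw [mem_normalizer_iff]
    intro x
    constructor
    · exact fun hx => ⟨R₁.mul_mem (R₁.mul_mem hg hx.1) (R₁.inv_mem hg), conj_mem_fxr hUR hg hx.2⟩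
    · intro hx
      have h1 : g⁻¹ * (g * x * g⁻¹) * g⁻¹⁻¹ ∈ N :=
        ⟨R₁.mul_mem (R₁.mul_mem (R₁.inv_mem hg) hx.1) (R₁.inv_mem (R₁.inv_mem hg)),
          conj_mem_fxr hUR (R₁.inv_mem hg) hx.2⟩
      have e1 : g⁻¹ * (g * x * g⁻¹) * g⁻¹⁻¹ = x := by group
      rwa [e1] at h1
  have hNst : N ≤ MulAction.stabilizer H v := fun x hx => hx.2 v (mem_orb_self _ _)
  have hDo : D ≤ o2 N := by
    have h1 : O ⊓ N ≤ o2 N := by
      refine le_o2 inf_le_right (hO2.to_le inf_le_left) ?_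
      intro x hx
      rw [mem_normalizer_iff]
      intro y
      have hxO := mem_normalizer_iff.1 (hOn (hNst hx)) y
      have hxN : y ∈ N ↔ x * y * x⁻¹ ∈ N := mem_normalizer_iff.1 (le_normalizer hx) y
      exact ⟨fun hy => ⟨hxO.1 hy.1, hxN.1 hy.2⟩, fun hy => ⟨hxO.2 hy.1, hxN.2 hy.2⟩⟩
    refine le_trans ?_ h1
    exact le_inf (hDA.trans hAo) (le_inf (hDA.trans (hAT₁.trans hT₁R₁)) inf_le_right)
  have ho2n : R₁ ≤ normalizer (o2 N : Set H) := by
    intro g hg
    exact ZN.normalizer_le_normalizer_o2 _ (hNn hg)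
  -- (ML) for `X₁` and `W₁ = ⟨v₁^X₁⟩`
  have ml2 : (fxr H (orb X₁ v₁)).relIndex D ≤ (cv M (D : Set H)).relIndex (orb X₁ v₁) :=
    rel_of_mlk ml s.sq hKG X₁ T₁ (o2 N) D v₁ (mem_top _) hT₁2 le_sup_right hT₁X₁ hfix₁ (o2_isPGroup _)
      ((o2_le _).trans (inf_le_left.trans inf_le_left)) (fun q hq => ((o2_le N) hq).1.2)
      (fun g hg hgv q hq => (mem_normalizer_iff.1 (ho2n ⟨hg, hgv⟩) q).1 hq)
      hDo (fun a ha => e.el a (hDA ha)) fun h => h.elim
  have horb1 : orb X₁ v₁ ≤ W := orb_le fun g hg => (hX₁W hg v₁).2 hv₁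
  have horb1' : W ≤ orb X₁ v₁ := by
    have h1 : (⊤ : Subgroup M) ≤ orb X₁ v₁ ⊔ V := by
      rw [← horb]
      refine orb_le fun k hk => ?_
      rw [← hvv, smul_mul']
      exact mul_mem ((le_sup_left : orb X₁ v₁ ≤ orb X₁ v₁ ⊔ V) (smul_mem_orb_self ((le_sup_left : K ≤ X₁) hk)))
        ((le_sup_right : V ≤ orb X₁ v₁ ⊔ V) (hV k hk v₂ hv₂))
    intro w hw
    obtain ⟨a, ha, b, hb, hab⟩ := mem_sup_c s.comm (h1 (mem_top w))
    have h2 : w = a ∧ (1 : M) = b := uniq hWV hw (horb1 ha) V.one_mem hb (by rw [mul_one, hab])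
    rw [h2.1]
    exact ha
  have horbW : orb X₁ v₁ = W := le_antisymm horb1 horb1'
  rw [horbW] at ml2
  have hDW : (fxr H W).relIndex D = Nat.card D := by
    rw [← inf_relIndex_left]
    have : D ⊓ fxr H W = ⊥ := by
      rw [eq_bot_iff]
      intro x hx
      exact mem_bot.2 (s.fix_bot hW hW0 hx.2)
    rw [this, relIndex_bot_left]
  rw [hDW] at ml2
  -- `M = W C_M(D)`
  have hWD : W ⊔ cv M (D : Set H) = ⊤ := by
    have hn : (cv M (D : Set H)).Normal := ⟨fun n hn g => by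
      rwa [s.comm g n, mul_assoc, mul_inv_cancel, mul_one]⟩
    have h1 : (cv M (D : Set H)).relIndex (W ⊔ cv M (D : Set H)) * (W ⊔ cv M (D : Set H)).index =
        (cv M (D : Set H)).index := relIndex_mul_index le_sup_right
    have h2 : (cv M (D : Set H)).relIndex W ≤ (cv M (D : Set H)).relIndex (W ⊔ cv M (D : Set H)) :=
      relIndex_le_of_le_right le_sup_left (relIndex_ne _ _)
    rw [c5] at h1
    have h3 : (W ⊔ cv M (D : Set H)).index = 1 := by
      have h4 : 0 < (W ⊔ cv M (D : Set H)).index := Nat.pos_of_ne_zero index_ne_zero_of_finite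
      by_contra h5
      have h6 : 2 ≤ (W ⊔ cv M (D : Set H)).index := by omega
      have h7 : Nat.card D * 2 ≤ Nat.card D := by
        calc Nat.card D * 2 ≤ (cv M (D : Set H)).relIndex (W ⊔ cv M (D : Set H)) *
            (W ⊔ cv M (D : Set H)).index := Nat.mul_le_mul (ml2.trans h2) h6
          _ = Nat.card D := h1
      omega
    exact index_eq_one.1 h3
  -- `D = 1`
  have hD1 : D = ⊥ := by
    rw [eq_bot_iff]
    intro d hd
    refine mem_bot.2 (s.fix_bot hV hV0 fun m hm => ?_)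
    obtain ⟨w, hw, c, hc, hwc⟩ := mem_sup_c s.comm (hWD.ge (mem_top m))
    have hdm : d • m * m⁻¹ ∈ W ⊓ V := by
      constructor
      · have h1 : d • m * m⁻¹ = d • w * w⁻¹ := by
          rw [← hwc, smul_mul', hc d hd, mul_inv_rev]
          group
        rw [h1]
        exact W.mul_mem ((hAW (hDA hd) w).2 hw) (W.inv_mem hw)
      · exact V.mul_mem ((hAV (hDA hd) m).2 hm) (V.inv_mem hm)
    rw [hWV, mem_bot] at hdm
    exact mul_inv_eq_one.1 hdm
  -- `M = U C_M(A)`
  have hcD : cv M (D : Set H) = ⊤ := by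
    rw [eq_top_iff]
    intro m _ x hx
    rw [hD1] at hx
    rw [mem_bot.1 hx, one_smul]
  have hUA : U ⊔ cv M (A : Set H) = ⊤ := by
    have h0 : Nat.card A ≤ (cv M (A : Set H)).relIndex U := by
      rw [hD1, card_bot, one_mul] at c2
      rwa [c2] at ml1
    have h1 : (cv M (A : Set H)).relIndex (U ⊔ cv M (A : Set H)) * (U ⊔ cv M (A : Set H)).index =
        (cv M (A : Set H)).index := relIndex_mul_index le_sup_right
    have h2 : (cv M (A : Set H)).relIndex U ≤ (cv M (A : Set H)).relIndex (U ⊔ cv M (A : Set H)) :=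
      relIndex_le_of_le_right le_sup_left (relIndex_ne _ _)
    rw [e.exact] at h1
    have h3 : (U ⊔ cv M (A : Set H)).index = 1 := by
      have h4 : 0 < (U ⊔ cv M (A : Set H)).index := Nat.pos_of_ne_zero index_ne_zero_of_finite
      by_contra h5
      have h6 : 2 ≤ (U ⊔ cv M (A : Set H)).index := by omega
      have h7 : Nat.card A * 2 ≤ Nat.card A := by
        calc Nat.card A * 2 ≤ (cv M (A : Set H)).relIndex (U ⊔ cv M (A : Set H)) *
            (U ⊔ cv M (A : Set H)).index := Nat.mul_le_mul (h0.trans h2) h6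
          _ = Nat.card A := h1
      omega
    exact index_eq_one.1 h3
  -- `A` centralises `W`
  have hUV : U ≤ zpowers v₁ ⊔ V := by
    refine orb_le fun g hg => ?_
    rw [← hvv, smul_mul']
    have h1 : g • v₁ = v₁ := hg.2
    rw [h1]
    exact mul_mem ((le_sup_left : zpowers v₁ ≤ zpowers v₁ ⊔ V) (mem_zpowers v₁))
      ((le_sup_right : V ≤ zpowers v₁ ⊔ V) ((hX₁V hg.1 v₂).2 hv₂))
  apply e.ne
  rw [eq_bot_iff]
  intro a ha
  refine mem_bot.2 (s.fix_bot hW hW0 fun w hw => ?_)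
  obtain ⟨u, hu, c, hc, huc⟩ := mem_sup_c s.comm (hUA.ge (mem_top w))
  have haw : a • w * w⁻¹ ∈ W ⊓ V := by
    refine ⟨W.mul_mem ((hAW ha w).2 hw) (W.inv_mem hw), ?_⟩
    have h1 : a • w * w⁻¹ = a • u * u⁻¹ := by
      rw [← huc, smul_mul', hc a ha, mul_inv_rev]
      group
    rw [h1]
    obtain ⟨x, hx, y, hy, hxy⟩ := mem_sup_c s.comm (hUV hu)
    obtain ⟨n, rfl⟩ := mem_zpowers_iff.1 hx
    have h2 : a • u * u⁻¹ = a • y * y⁻¹ := by
      rw [← hxy, smul_mul', smul_zpow', hfix₁ a (hAT₁ ha), mul_inv_rev]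
      calc v₁ ^ n * a • y * (y⁻¹ * (v₁ ^ n)⁻¹) = v₁ ^ n * (a • y * y⁻¹) * (v₁ ^ n)⁻¹ := by group
        _ = a • y * y⁻¹ := by rw [s.comm (v₁ ^ n), mul_assoc, mul_inv_cancel, mul_one]
    rw [h2]
    exact V.mul_mem ((hAV ha y).2 hy) (V.inv_mem hy)
  rw [hWV, mem_bot] at haw
  exact mul_inv_eq_one.1 haw

/-- (a) an exact atom normalises every irreducible `K`-submodule -/
theorem atom_normalises [Finite H] [Finite M] {K T A : Subgroup H} (s : Sit H M K T) (e : Exa H M T A)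
    (hat : ∀ C : Subgroup H, C ≤ A → C ≠ ⊥ → C ≠ A → Nat.card C < (cv M (C : Set H)).index)
    {W : Subgroup M} (hW : Smp K W) {a : H} (ha : a ∈ A) : gm a W = W := by
  by_contra hne
  have hinv : ∀ x : M, x⁻¹ = x := fun x => inv_eq_of_mul_eq_one_right (s.sq x)
  have hinvA : ∀ z ∈ A, z⁻¹ = z := fun z hz => inv_eq_of_mul_eq_one_right (e.el z hz)
  have ab : ∀ a ∈ A, ∀ b ∈ A, a * b = b * a := by
    intro a ha b hb
    calc a * b = (a * b)⁻¹ := (hinvA _ (A.mul_mem ha hb)).symm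
      _ = b⁻¹ * a⁻¹ := mul_inv_rev _ _
      _ = b * a := by rw [hinvA _ ha, hinvA _ hb]
  have hcm : Nat.card A * Nat.card (cv M (A : Set H)) = Nat.card M := by
    rw [← e.exact, mul_comm]
    exact card_mul_index _
  have quad : ∀ a ∈ A, ∀ b ∈ A, ∀ m : M, b • ((a • m) * m⁻¹) = (a • m) * m⁻¹ := by
    refine TieX.quad_of_atom s.sq ab e.ne hcm.ge fun D hD hD1 => ?_
    rw [hcm, ← card_mul_index (cv M (D : Set H)), mul_comm]
    exact Nat.mul_lt_mul_of_pos_left (hat D hD.le hD1 hD.ne) Nat.card_pos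
  have hWa := hW.gm s.norm a
  have hdisj : W ⊓ gm a W = ⊥ := hW.disj hWa fun h => hne h.symm
  -- elements of `A` normalising `W` are trivial
  have key : ∀ b ∈ A, gm b W = W → b = 1 := by
    intro b hb hbW
    refine s.fix_bot hW.inv hW.ne fun w hw => ?_
    have h1 := quad a ha b hb w
    have hbw : b • w ∈ W := by
      have := smul_mem_gm (g := b) hw
      rwa [hbW] at this
    have h2 : b • (a • w) = a • (b • w) := by rw [← mul_smul, ← mul_smul, ab a ha b hb]
    rw [smul_mul', h2, smul_inv'] at h1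
    -- `(b w) w⁻¹ = (a b w) (a w)⁻¹`
    have h3 : b • w * w⁻¹ ∈ W ⊓ gm a W := by
      refine ⟨W.mul_mem hbw (W.inv_mem hw), ?_⟩
      have h4 : b • w * w⁻¹ = (a • w)⁻¹ * a • (b • w) := by
        have h5 : a • (b • w) = (a • w) * w⁻¹ * (b • w) := by rw [← h1]; group
        rw [h5, s.comm (b • w)]
        group
      rw [h4]
      exact (gm a W).mul_mem ((gm a W).inv_mem (smul_mem_gm hw)) (smul_mem_gm hbw)
    rw [hdisj, mem_bot] at h3
    exact mul_inv_eq_one.1 h3
  -- `|A| ≥ 4`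
  have hW2 : ∃ w ∈ W, w ≠ 1 := by
    obtain ⟨⟨w, hw⟩, hw1⟩ := Subgroup.ne_bot_iff_exists_ne_one.1 hW.ne
    exact ⟨w, hw, fun h => hw1 (Subtype.ext h)⟩
  have ha1 : a ≠ 1 := fun h => hne (by rw [h, gm_one])
  have hex : ∃ b ∈ A, b ≠ 1 ∧ b ≠ a := by
    by_contra hc
    push Not at hc
    -- `A = {1, a}`, `|M : C_M(a)| = 2`, but `w ↦ [w, a]` is injective on `W`
    have hA : A = zpowers a := by
      apply le_antisymm
      · intro b hb
        by_cases hb1 : b = 1
        · rw [hb1]; exact one_mem _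
        · rw [hc b hb hb1]; exact mem_zpowers a
      · rwa [zpowers_le]
    have hA2 : Nat.card A = 2 := by
      rw [hA, Nat.card_zpowers]
      exact orderOf_eq_prime (by rw [pow_two, e.el a ha]) ha1
    have h1 : (cv M (A : Set H)).index = 2 := by rw [e.exact, hA2]
    -- `|W| ≤ |M : C_M(A)|`
    have h2 : Nat.card W ≤ 2 := by
      rw [← h1, index]
      refine Nat.card_le_card_of_injective
        (fun w : W => (QuotientGroup.mk (w : M) : M ⧸ cv M (A : Set H))) fun x y hxy => ?_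
      rw [QuotientGroup.eq] at hxy
      have h3 : (x : M)⁻¹ * (y : M) ∈ W := W.mul_mem (W.inv_mem x.2) y.2
      have h4 : a • ((x : M)⁻¹ * (y : M)) = (x : M)⁻¹ * (y : M) := hxy a ha
      have h5 : (x : M)⁻¹ * (y : M) ∈ W ⊓ gm a W := ⟨h3, by rw [← h4]; exact smul_mem_gm h3⟩
      rw [hdisj, mem_bot] at h5
      exact Subtype.ext (inv_mul_eq_one.1 h5)
    -- so `K` centralises `W`
    obtain ⟨w, hw, hw1⟩ := hW2
    have h3 : ∀ x ∈ W, x = 1 ∨ x = w := by
      have hww : w * w = 1 := s.sq w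
      have h4 : zpowers w = W := by
        refine Subgroup.eq_of_le_of_card_ge (by rwa [zpowers_le]) ?_
        rw [Nat.card_zpowers, orderOf_eq_prime (by rw [pow_two, hww]) hw1]
        exact h2
      intro x hx
      rw [← h4] at hx
      obtain ⟨n, rfl⟩ := mem_zpowers_iff.1 hx
      rcases Int.even_or_odd' n with ⟨m, rfl | rfl⟩
      · left
        rw [zpow_mul, zpow_two, hww, one_zpow]
      · right
        rw [zpow_add, zpow_mul, zpow_two, hww, one_zpow, one_mul, zpow_one]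
    apply hw1
    have h4 : w ∈ cv M (K : Set H) := by
      intro k hk
      rcases h3 _ (hW.inv k hk w hw) with h5 | h5
      · exfalso
        apply hw1
        rw [← inv_smul_smul k w, h5, smul_one]
      · exact h5
    rwa [s.cv_K, mem_bot] at h4
  obtain ⟨b, hb, hb1, hba⟩ := hex
  obtain ⟨w, hw, hw1⟩ := hW2
  have hbW : gm b W ≠ W := fun h => hb1 (key b hb h)
  have habW : gm (b * a) W ≠ W := by
    intro h
    have h1 := key (b * a) (A.mul_mem hb ha) h
    apply hba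
    rw [mul_eq_one_iff_eq_inv, hinvA a ha] at h1
    exact h1
  have h1 := quad a ha b hb w
  rw [smul_mul', smul_inv', ← mul_smul] at h1
  have h2 : w ∈ W ⊓ Sit.oth K W := by
    refine ⟨hw, ?_⟩
    have h3 : w = (a • w) * ((b * a) • w * (b • w)⁻¹)⁻¹ := by
      rw [h1]
      rw [mul_inv_rev, inv_inv, s.comm w, mul_inv_cancel_left]
    rw [h3]
    refine (Sit.oth K W).mul_mem (Sit.le_oth hWa hne (smul_mem_gm hw))
      ((Sit.oth K W).inv_mem ((Sit.oth K W).mul_mem ?_ ((Sit.oth K W).inv_mem ?_)))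
    · exact Sit.le_oth (hW.gm s.norm (b * a)) habW (smul_mem_gm hw)
    · exact Sit.le_oth (hW.gm s.norm b) hbW (smul_mem_gm hw)
  rw [s.inf_oth hW, mem_bot] at h2
  exact hw1 h2

/-- **THEOREM IRR** for an exact subgroup -/
theorem irr_of_exa (ml : MLK.{u, v}) [Finite H] [Finite M] (hKG : IsKGroup H) {K T A : Subgroup H}
    (s : Sit H M K T) (e : Exa H M T A) :
    ∀ W : Subgroup M, (∀ k ∈ K, ∀ w ∈ W, k • w ∈ W) → W = ⊥ ∨ W = ⊤ := by
  intro U hU
  by_cases hU0 : U = ⊥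
  · exact Or.inl hU0
  right
  obtain ⟨W, hWU, hW⟩ := exists_smp (K := K) hU hU0
  suffices hWt : W = ⊤ from le_antisymm le_top (hWt ▸ hWU)
  by_contra hWt
  -- an exact atom
  obtain ⟨A₀, ⟨hA₀, hA₀ne, hA₀ex⟩, hmin⟩ := (Set.toFinite
    {C : Subgroup H | C ≤ A ∧ C ≠ ⊥ ∧ (cv M (C : Set H)).index = Nat.card C}).exists_minimal
    ⟨A, le_rfl, e.ne, e.exact⟩
  have hat : ∀ C : Subgroup H, C ≤ A₀ → C ≠ ⊥ → C ≠ A₀ → Nat.card C < (cv M (C : Set H)).index := by
    intro C hC hC0 hne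
    refine lt_of_le_of_ne (e.sub C (hC.trans hA₀)) fun h => hne ?_
    exact le_antisymm hC (hmin ⟨hC.trans hA₀, hC0, h.symm⟩ hC)
  have e₀ : Exa H M T A₀ := ⟨hA₀.trans e.AT, hA₀ne, fun a ha => e.el a (hA₀ ha), hA₀ex,
    fun C hC => e.sub C (hC.trans hA₀), fun R hT hR => hA₀.trans (e.low R hT hR)⟩
  have hn : ∀ a ∈ A₀, gm a W = W := fun a ha => atom_normalises s e₀ hat hW ha
  refine no_dec ml hKG s e₀ hW.inv Sit.kin_oth (s.inf_oth hW) (s.sup_oth hW) hW.ne ?_
    (fun a ha => mem_nst_of_gm (hn a ha)) ?_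
  · intro h0
    apply hWt
    have := s.sup_oth hW
    rwa [h0, sup_bot_eq] at this
  · intro a ha
    refine mem_nst_of_gm (le_antisymm (s.nst_oth (hn a ha)) ?_)
    have h1 : gm a⁻¹ W = W := hn a⁻¹ (A₀.inv_mem ha)
    have h2 := gm_mono a (s.nst_oth h1)
    rwa [gm_gm, mul_inv_cancel, gm_one] at h2

end Cfsg.Agent.Omega.ML.Ex.IrrK

namespace Cfsg.Agent.Omega.ML.Ex

open Subgroup Cfsg Cfsg.Agent.ClassTwoFusion.Quad
open Cfsg.Agent.Omega.ML.Final (MLK)

universe u v

variable {H : Type u} [Group H] {M : Type v} [Group M] [MulDistribMulAction H M] {K T A : Subgroup H}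

/-- `A` is exact, sub-exact and low -/
theorem InX.exa (h : InX H M K T A) : IrrK.Exa H M T A where
  AT := h.AT
  ne := h.A_ne_bot
  el := h.el
  exact := h.exact
  sub := h.sub
  low := h.low

/-- **THEOREM IRR** (#22122 (A)): `M|_K` is irreducible. -/
theorem InX.irr_K (ml : MLK.{u, v}) [Finite H] [Finite M] (hKG : IsKGroup H) (h : InX H M K T A) :
    ∀ W : Subgroup M, (∀ k ∈ K, ∀ w ∈ W, k • w ∈ W) → W = ⊥ ∨ W = ⊤ :=
  IrrK.irr_of_exa ml hKG h.sit h.exa

end Cfsg.Agent.Omega.ML.Ex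

end

-- merged: Cfsg.Agent.Mrg.Omega.CR.EndLie
section

/-!
# THEOREM END, P7: the exact situation with `K` of Lie type in characteristic two (helper818)

* `lie2` : `InX H M K T A`, `K` of Lie type in characteristic two: `C_M(T ∩ K)` is an irreducible module for
  `N_K(T ∩ K)` (`M|_K` is irreducible by `InX.irr_K`, then Curtis–Richen `CR.Bl.cr_lie`);
* `lie2'` : the same with `W = C_M(T ∩ K)` as an equality.
-/

set_option autoImplicit false

namespace Cfsg.Agent.Omega.CR.EndLie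

open Subgroup Cfsg Cfsg.Agent.Omega.ML.Ex Cfsg.Agent.ClassTwoFusion.Quad
open Cfsg.Agent.Omega.ML.Final (MLK)

universe u v

variable {H : Type u} [Group H] [Finite H] {M : Type v} [Group M] [Finite M] [MulDistribMulAction H M]
  {K T A : Subgroup H}

/-- every nonzero `N_K(T ∩ K)`-submodule of `C_M(T ∩ K)` is everything -/
theorem lie2 (ml : MLK.{u, v}) (hKG : IsKGroup H) (h : InX H M K T A) (hl : IsLieTypeChar 2 K) {W : Subgroup M}
    (hW : ∀ w ∈ W, ∀ s ∈ T ⊓ K, s • w = w)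
    (hN : ∀ n ∈ normalizer ((T ⊓ K : Subgroup H) : Set H), n ∈ K → ∀ w ∈ W, n • w ∈ W) (hne : W ≠ ⊥) :
    ∀ m : M, (∀ s ∈ T ⊓ K, s • m = m) → m ∈ W :=
  CR.Bl.cr_lie h.norm h.simple hl h.two h.syl h.sq (h.irr_K ml hKG) hW hN hne

/-- the same as an equality -/
theorem lie2' (ml : MLK.{u, v}) (hKG : IsKGroup H) (h : InX H M K T A) (hl : IsLieTypeChar 2 K) {W : Subgroup M}
    (hW : W ≤ cv M ((T ⊓ K : Subgroup H) : Set H)) (hne : W ≠ ⊥)
    (hN : ∀ n ∈ normalizer ((T ⊓ K : Subgroup H) : Set H), n ∈ K → ∀ w ∈ W, n • w ∈ W) :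
    W = cv M ((T ⊓ K : Subgroup H) : Set H) :=
  le_antisymm hW fun m hm => lie2 ml hKG h hl (fun _ hw s hs => hW hw s hs) hN hne m fun s hs => hm s hs

end Cfsg.Agent.Omega.CR.EndLie

end
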